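import Cfsg.Agent.S5824
import Cfsg.Agent.S0813
import Cfsg.Agent.H419.EP.Soc
import Cfsg.Agent.H419.EP.Targets
import Cfsg.Agent.H59.EP.UBFin
import Cfsg.Agent.H955.Sp
import Cfsg.Agent.H895.SLT.ResCard
import Cfsg.Agent.ClassicalGeometry.PSL2Basic
import Cfsg.Agent.TwoFusion.SLTwoFacts

/-!
# S3499, layer IV: the row `PSp_8(q)`, residual class (helper156)

`row`: the residual class for `spGL 4 F`, `|F| ≥ 3`; only the own characteristic socles `PSL_2(q)`, `PSL_2(q^3)` remain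
as hypotheses.
-/

set_option autoImplicit false

namespace Cfsg.Agent.H156.EP

open Cfsg Subgroup Cfsg.Agent.H284 Cfsg.Agent.H419.EP
open scoped MatrixGroups

/-- a simple group of non-prime order is not commutative -/
theorem nc_of_card {L : Type*} [Group L] [Finite L] (hL : IsSimpleGroup L) (hc : ¬ (Nat.card L).Prime) :
    ¬ ∀ a b : L, a * b = b * a := by
  intro hcomm
  let _ : CommGroup L := { (inferInstance : Group L) with mul_comm := hcomm }
  exact hc (IsSimpleGroup.prime_card (α := L))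

theorem aut_psl2 {F : Type*} [Field F] [Fintype F] {p : ℕ} (hp : p.Prime) (h4 : 4 ≤ p) (hF : Fintype.card F = p) :
    Nat.card (MulAut (Matrix.ProjectiveSpecialLinearGroup (Fin 2) F)) = p * (p ^ 2 - 1) := by
  have := Fact.mk hp
  have h1 := S0813.result (F := F) p 1 le_rfl (by rw [hF, pow_one]) 2 le_rfl (fun _ => by rw [pow_one]; exact h4)
  rw [h1, ClassicalGeometry.PSL2Basic.card_PGL2, hF]
  simp

section Bounds

variable {Q : Type} [Group Q] [Finite Q] {A : Subgroup Q} {Γ : Subgroup (MulAut Q)}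

/-- the order of `Q` from UB2 (`|A|` given by its factorisation `l`) -/
theorem card_le (h : EPT A Γ) {L : Type*} [Group L] (hs : HasSoc A L) (hL : IsSimpleGroup L)
    (hLn : ¬ ∀ a b : L, a * b = b * a) (l : List (ℕ × ℕ)) (h1 : ∀ x ∈ l, x.1.Prime ∧ 0 < x.2) (h2 : (l.map Prod.fst).Nodup)
    (h5 : ∀ x ∈ l, 5 ≤ x.1 → x.2 = 1) (hc : Nat.card A = (l.map fun x => x.1 ^ x.2).prod) :
    Nat.card Q ≤ Nat.card A * ((l.map fun x => H59.EP.gal x.1 x.2).sum * (Nat.card A / 6) + Nat.card A ^ 2 / 60) ^ 2 := by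
  have h6 := H59.EP.EPT.ncard_le_fin h (fun K hK hn hab => hs.no_abelian hL hLn hK hn hab) l h1 h2 h5 hc
  have h7 := h.index_le.trans (Nat.pow_le_pow_left h6 2)
  rw [← A.card_mul_index]
  exact Nat.mul_le_mul_left _ h7

/-- the socle `PSL_2(7)` -/
theorem l27 (h : EPT A Γ) (hs : HasSoc A (Matrix.ProjectiveSpecialLinearGroup (Fin 2) (ZMod 7))) :
    Nat.card Q < 10 ^ 12 := by
  have hL : IsSimpleGroup (Matrix.ProjectiveSpecialLinearGroup (Fin 2) (ZMod 7)) :=
    TwoFusion.SLTwoFacts.isSimpleGroup_psl (by rw [ZMod.card]; norm_num)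
  have hcL : Nat.card (Matrix.ProjectiveSpecialLinearGroup (Fin 2) (ZMod 7)) = 168 := by
    have h1 := ClassicalGeometry.PSL2Basic.card_PSL2_odd (F := ZMod 7) (by rw [ZMod.card]; decide)
    rw [ZMod.card, show 7 * (7 ^ 2 - 1) = 168 * 2 from rfl] at h1
    exact Nat.eq_of_mul_eq_mul_right (by norm_num) h1
  have hLn := nc_of_card hL (by rw [hcL]; norm_num)
  obtain ⟨f, hf⟩ := hs.exists_hom
  have hd := Subgroup.card_dvd_of_injective f hf
  rw [aut_psl2 (by norm_num : Nat.Prime 7) (by norm_num) (ZMod.card 7)] at hd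
  obtain ⟨c, hc⟩ := hs.card_dvd
  rw [hcL] at hc
  rw [hc] at hd
  have hc2 : c ∣ 2 := by
    have : 168 * c ∣ 168 * 2 := by norm_num at hd ⊢; exact hd
    exact Nat.dvd_of_mul_dvd_mul_left (by norm_num) this
  rcases (Nat.dvd_prime Nat.prime_two).1 hc2 with rfl | rfl
  · have h1 := card_le h hs hL hLn [(2, 3), (3, 1), (7, 1)] (by simp; norm_num) (by decide) (by simp) (by rw [hc]; norm_num)
    refine h1.trans_lt ?_
    rw [hc]
    decide +kernel
  · have h1 := card_le h hs hL hLn [(2, 4), (3, 1), (7, 1)] (by simp; norm_num) (by decide) (by simp) (by rw [hc]; norm_num)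
    refine h1.trans_lt ?_
    rw [hc]
    decide +kernel

/-- the socle `PSL_2(17)` -/
theorem l217 (h : EPT A Γ) (hs : HasSoc A (Matrix.ProjectiveSpecialLinearGroup (Fin 2) (ZMod 17))) :
    Nat.card Q < 10 ^ 16 := by
  have := Fact.mk (show Nat.Prime 17 by norm_num)
  have hL : IsSimpleGroup (Matrix.ProjectiveSpecialLinearGroup (Fin 2) (ZMod 17)) :=
    TwoFusion.SLTwoFacts.isSimpleGroup_psl (by rw [ZMod.card]; norm_num)
  have hcL : Nat.card (Matrix.ProjectiveSpecialLinearGroup (Fin 2) (ZMod 17)) = 2448 := by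
    have h1 := ClassicalGeometry.PSL2Basic.card_PSL2_odd (F := ZMod 17) (by rw [ZMod.card]; decide)
    rw [ZMod.card, show 17 * (17 ^ 2 - 1) = 2448 * 2 from rfl] at h1
    exact Nat.eq_of_mul_eq_mul_right (by norm_num) h1
  have hLn := nc_of_card hL (by rw [hcL]; norm_num)
  obtain ⟨f, hf⟩ := hs.exists_hom
  have hd := Subgroup.card_dvd_of_injective f hf
  rw [aut_psl2 (by norm_num : Nat.Prime 17) (by norm_num) (ZMod.card 17)] at hd
  obtain ⟨c, hc⟩ := hs.card_dvd
  rw [hcL] at hc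
  rw [hc] at hd
  have hc2 : c ∣ 2 := by
    have : 2448 * c ∣ 2448 * 2 := by norm_num at hd ⊢; exact hd
    exact Nat.dvd_of_mul_dvd_mul_left (by norm_num) this
  rcases (Nat.dvd_prime Nat.prime_two).1 hc2 with rfl | rfl
  · have h1 := card_le h hs hL hLn [(2, 4), (3, 2), (17, 1)] (by simp; norm_num) (by decide) (by simp) (by rw [hc]; norm_num)
    refine h1.trans_lt ?_
    rw [hc]
    decide +kernel
  · have h1 := card_le h hs hL hLn [(2, 5), (3, 2), (17, 1)] (by simp; norm_num) (by decide) (by simp) (by rw [hc]; norm_num)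
    refine h1.trans_lt ?_
    rw [hc]
    decide +kernel

/-- the socle `A_6` -/
theorem a6 (h : EPT A Γ) (hs : HasSoc A (alternatingGroup (Fin 6))) : Nat.card Q < 10 ^ 14 := by
  have hL : IsSimpleGroup (alternatingGroup (Fin 6)) := alternatingGroup.isSimpleGroup (by rw [Nat.card_fin]; norm_num)
  have hcL : Nat.card (alternatingGroup (Fin 6)) = 360 := by
    have h1 := two_mul_nat_card_alternatingGroup (α := Fin 6)
    rw [Nat.card_perm, Nat.card_fin] at h1
    have h2 : Nat.factorial 6 = 720 := rfl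
    omega
  have hLn := nc_of_card hL (by rw [hcL]; norm_num)
  obtain ⟨f, hf⟩ := hs.exists_hom
  have hd := Subgroup.card_dvd_of_injective f hf
  rw [H895.SLT.card_aut_a6] at hd
  obtain ⟨c, hc⟩ := hs.card_dvd
  rw [hcL] at hc
  rw [hc] at hd
  have hc2 : c ∣ 4 := Nat.dvd_of_mul_dvd_mul_left (show 0 < 360 by norm_num) hd
  have hc4 : c ≤ 4 := Nat.le_of_dvd (by norm_num) hc2
  interval_cases c
  · omega
  · have h1 := card_le h hs hL hLn [(2, 3), (3, 2), (5, 1)] (by simp; norm_num) (by decide) (by simp) (by rw [hc]; norm_num)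
    refine h1.trans_lt ?_
    rw [hc]
    decide +kernel
  · have h1 := card_le h hs hL hLn [(2, 4), (3, 2), (5, 1)] (by simp; norm_num) (by decide) (by simp) (by rw [hc]; norm_num)
    refine h1.trans_lt ?_
    rw [hc]
    decide +kernel
  · omega
  · have h1 := card_le h hs hL hLn [(2, 5), (3, 2), (5, 1)] (by simp; norm_num) (by decide) (by simp) (by rw [hc]; norm_num)
    refine h1.trans_lt ?_
    rw [hc]
    decide +kernel

end Bounds

/-- the order of `Q` from the model -/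
theorem card_spGL_le {Q : Type*} [Group Q] [Finite Q] {F : Type*} [Field F] [Fintype F] {k : ℕ} (m : Model Q (Cfsg.spGL k F)) :
    Nat.card (Cfsg.spGL k F) ≤ Nat.card Q * Fintype.card F := by
  rw [Subgroup.card_eq_card_quotient_mul_card_subgroup m.π.ker,
    Nat.card_congr (QuotientGroup.quotientKerEquivOfSurjective m.π m.surj).toEquiv]
  refine Nat.mul_le_mul_left _ ?_
  choose c hc using fun s : m.π.ker => (Cfsg.Geo.mem_scalars_iff _).1 ((m.ker s).1 s.2)
  rw [← Nat.card_eq_fintype_card (α := F)]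
  refine Nat.card_le_card_of_injective (fun s => (c s : F)) ?_
  intro s t hst
  have hst' : (c s : F) = c t := hst
  apply Subtype.ext
  apply Subtype.ext
  apply Units.ext
  rw [hc s, hc t, hst']

theorem le_card {Q : Type*} [Group Q] [Finite Q] {F : Type*} [Field F] [Fintype F] (m : Model Q (Cfsg.spGL 4 F))
    {q₀ : ℕ} (hq : q₀ ≤ Fintype.card F) :
    q₀ ^ 15 * ((q₀ ^ 2 - 1) * (q₀ ^ 4 - 1) * (q₀ ^ 6 - 1) * (q₀ ^ 8 - 1)) ≤ Nat.card Q := by
  have h1 := card_spGL_le m
  rw [H955.card_spGL, Nat.card_eq_fintype_card] at h1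
  simp only [Finset.prod_range_succ, Finset.prod_range_zero, one_mul] at h1
  norm_num at h1
  generalize Fintype.card F = q at *
  have hqpos : 0 < q ∨ q = 0 := by omega
  have h2 : q ^ 15 * ((q ^ 2 - 1) * (q ^ 4 - 1) * (q ^ 6 - 1) * (q ^ 8 - 1)) * q ≤ Nat.card Q * q := by
    calc q ^ 15 * ((q ^ 2 - 1) * (q ^ 4 - 1) * (q ^ 6 - 1) * (q ^ 8 - 1)) * q
        = q ^ 16 * ((q ^ 2 - 1) * (q ^ 4 - 1) * (q ^ 6 - 1) * (q ^ 8 - 1)) := by ring
      _ ≤ _ := h1
  have hmono : ∀ i, q₀ ^ i - 1 ≤ q ^ i - 1 := fun i => Nat.sub_le_sub_right (Nat.pow_le_pow_left hq i) 1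
  have h3 : q₀ ^ 15 * ((q₀ ^ 2 - 1) * (q₀ ^ 4 - 1) * (q₀ ^ 6 - 1) * (q₀ ^ 8 - 1)) ≤
      q ^ 15 * ((q ^ 2 - 1) * (q ^ 4 - 1) * (q ^ 6 - 1) * (q ^ 8 - 1)) :=
    Nat.mul_le_mul (Nat.pow_le_pow_left hq 15)
      (Nat.mul_le_mul (Nat.mul_le_mul (Nat.mul_le_mul (hmono 2) (hmono 4)) (hmono 6)) (hmono 8))
  rcases hqpos with h | h
  · exact h3.trans (Nat.le_of_mul_le_mul_right h2 h)
  · subst h
    obtain rfl : q₀ = 0 := by omega
    simp

/-- **The row `PSp_8(q)`, residual class.** -/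
theorem row {Q : Type} [Group Q] [Finite Q] {A : Subgroup Q} {Γ : Subgroup (MulAut Q)} (h : EPT A Γ)
    {F : Type} [Field F] [Fintype F] (hF : 3 ≤ Fintype.card F) (m : Model Q (Cfsg.spGL 4 F))
    (hres : Cfsg.Geo.InSymplecticResidualClass (m.hat A))
    (own1 : HasSoc A (Matrix.ProjectiveSpecialLinearGroup (Fin 2) F) → 11 ≤ ringChar F → False)
    (own3 : ∀ (K : Type) [Field K] [Fintype K], Fintype.card K = Fintype.card F ^ 3 → Odd (Fintype.card F) →
      HasSoc A (Matrix.ProjectiveSpecialLinearGroup (Fin 2) K) → False) : False := by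
  obtain ⟨P, p, hP, hp, hchar, hlist⟩ := S5824.result _ (m.isMaximalIn h.max) hres
  have hsoc := hasSoc_of_core m hP
  have hpF : ringChar F = p := ringChar.eq F p
  rcases hlist with ⟨⟨e⟩, hq, h5, -⟩ | ⟨⟨e⟩, hq⟩ | ⟨⟨e⟩, hq⟩ | ⟨-, hq⟩ | ⟨⟨e⟩, hq⟩ | ⟨⟨K, _, _, hK, ⟨e⟩⟩, hodd⟩
  · have h1 := l27 h (hsoc.congr e)
    have h2 := le_card m (q₀ := 5) (by omega)
    norm_num at h1 h2
    omega
  · have h1 := a6 h (hsoc.congr e)
    have h3 : 5 ≤ Fintype.card F := by
      rcases hq with ⟨hq, h3⟩ | ⟨hq, h3, h4, h5⟩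
      · have := hp.two_le
        omega
      · have h6 : 5 ≤ p := by
          have := hp.two_le
          omega
        rw [hq]
        nlinarith
    have h2 := le_card m (q₀ := 5) h3
    norm_num at h1 h2
    omega
  · have h1 := l217 h (hsoc.congr e)
    have h3 : 4 ≤ Fintype.card F := by
      rcases hq with ⟨hq, h3⟩ | ⟨hq, h3⟩
      · have := hp.two_le
        omega
      · have h6 : 2 ≤ p := hp.two_le
        rw [hq]
        nlinarith
    have h2 := le_card m (q₀ := 4) h3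
    norm_num at h1 h2
    omega
  · omega
  · exact own1 (hsoc.congr e) (by rw [hpF]; exact hq)
  · exact own3 K hK hodd (hsoc.congr e)

end Cfsg.Agent.H156.EP
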